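import Cfsg.Agent.H521.KKL.RowHN

/-!
# S4908, FROB row of HN: no elementary abelian subgroup of order 8 (a fortiori 64) centralizes an element of order 5 (helper680)
-/

set_option autoImplicit false

namespace Cfsg.Agent.H680.S8.LW

open Cfsg Cfsg.Agent Cfsg.Agent.H613.KKL Cfsg.Agent.H521.KKL
open Cfsg.Agent.HN.Pres Cfsg.Agent.HN.H0Basic
open Cfsg.Agent.HN.P1408 hiding ψ
open Cfsg.Agent.HN.XMat Cfsg.Agent.HN.XStruct
open Cfsg.Agent.HN.XWords (W0 W0_sq Q Γ sgn0 sgn0_mul)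
open Cfsg.Agent.HN.NormalH (ψ)
open Cfsg.Agent.KFacts.HN
open Cfsg.Agent.CpAutHN.PPFacts (isPGroup_ker app_eq_of_comm mem_ker_iff)
open Cfsg.Agent.CpAutHNFive Cfsg.Agent.CpAutHNFive.LFive Cfsg.Agent.CpAutHNFive.PFive
open Subgroup

local notation "GG" => Cfsg.Spor.HN

/-- a subgroup of order 8 -/
theorem exists_e8 {E : Subgroup GG} (hE : 8 ∣ Nat.card E) (h2 : ∀ x ∈ E, x * x = 1) :
    ∃ D : Subgroup GG, D ≤ E ∧ E8 D := by
  have hF : Fact (Nat.Prime 2) := ⟨Nat.prime_two⟩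
  have hfin : Finite GG := Nat.finite_of_card_ne_zero (by rw [H755.CC.HNB.card_G]; norm_num)
  obtain ⟨K, hK⟩ := Sylow.exists_subgroup_card_pow_prime (G := E) 2 (n := 3) (by simpa using hE)
  refine ⟨K.map E.subtype, ?_, ?_, ?_⟩
  · rintro _ ⟨k, -, rfl⟩
    exact k.2
  · rw [← (Nat.card_congr (K.equivMapOfInjective E.subtype E.subtype_injective).toEquiv), hK]
    norm_num
  · rintro _ ⟨k, -, rfl⟩
    exact h2 _ k.2

/-- in the centralizer of `W0` -/
theorem no_e8_W {w : GG} (hw : orderOf w = 5) {D : Subgroup GG} (hD : E8 D) (hc : ∀ d ∈ D, d * w = w * d)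
    (hW : ∀ d ∈ D, d * W0 = W0 * d) (hwW : w * W0 = W0 * w) : False := by
  classical
  have hfin : Finite GG := Nat.finite_of_card_ne_zero (by rw [H755.CC.HNB.card_G]; norm_num)
  have hx : orderOf (⟨w, mem_PP.2 hwW⟩ : PP) = 5 := by
    rw [← Subgroup.orderOf_coe]
    exact hw
  obtain ⟨g, m, hm1, hm5, hty⟩ := conj_std hx
  -- the conjugates of the elements of `D`
  let f : GG → GG := fun d => (g : GG) * d * (g : GG)⁻¹
  have fP : ∀ d ∈ D, f d ∈ PP := fun d hd => PP.mul_mem (PP.mul_mem g.2 (mem_PP.2 (hW d hd))) (PP.inv_mem g.2)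
  have f2 : ∀ d ∈ D, f d * f d = 1 := by
    intro d hd
    change (g : GG) * d * (g : GG)⁻¹ * ((g : GG) * d * (g : GG)⁻¹) = 1
    calc (g : GG) * d * (g : GG)⁻¹ * ((g : GG) * d * (g : GG)⁻¹) = (g : GG) * (d * d) * (g : GG)⁻¹ := by group
      _ = 1 := by rw [hD.inv d hd, mul_one, mul_inv_cancel]
  have fm : ∀ a b : GG, f (a * b) = f a * f b := by
    intro a b
    change (g : GG) * (a * b) * (g : GG)⁻¹ = (g : GG) * a * (g : GG)⁻¹ * ((g : GG) * b * (g : GG)⁻¹)
    group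
  have finj : ∀ a b : GG, f a = f b → a = b := by
    intro a b hab
    exact mul_left_cancel (mul_right_cancel hab)
  have fc : ∀ d (hd : d ∈ D), (⟨f d, fP d hd⟩ : PP) * (g * (⟨w, mem_PP.2 hwW⟩ : PP) ^ m * g⁻¹) =
      (g * (⟨w, mem_PP.2 hwW⟩ : PP) ^ m * g⁻¹) * ⟨f d, fP d hd⟩ := by
    intro d hd
    apply Subtype.ext
    change (g : GG) * d * (g : GG)⁻¹ * ((g : GG) * w ^ m * (g : GG)⁻¹) = (g : GG) * w ^ m * (g : GG)⁻¹ * ((g : GG) * d * (g : GG)⁻¹)
    have h1 : d * w ^ m = w ^ m * d := (show Commute d w from hc d hd).pow_right m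
    calc (g : GG) * d * (g : GG)⁻¹ * ((g : GG) * w ^ m * (g : GG)⁻¹) = (g : GG) * (d * w ^ m) * (g : GG)⁻¹ := by group
      _ = (g : GG) * (w ^ m * d) * (g : GG)⁻¹ := by rw [h1]
      _ = _ := by group
  -- two elements of `D`
  have inv1 : f 1 = 1 := by change (g : GG) * 1 * (g : GG)⁻¹ = 1; group
  let W' : GG := (g : GG)⁻¹ * W0 * (g : GG)
  have hW' : f W' = W0 := by
    change (g : GG) * ((g : GG)⁻¹ * W0 * (g : GG)) * (g : GG)⁻¹ = W0
    group
  obtain ⟨a, ha, ha1⟩ := exists_not_mem hD.card {1, W'} (lt_of_le_of_lt Finset.card_le_two (by norm_num))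
  obtain ⟨b, hb, hb1⟩ := exists_not_mem hD.card {1, W', a, a * W'} (lt_of_le_of_lt Finset.card_le_four (by norm_num))
  simp only [Finset.mem_insert, Finset.mem_singleton, not_or] at ha1 hb1
  have key : ∀ d (hd : d ∈ D), d ≠ 1 → d ≠ W' → ¬ (f d = 1 ∨ f d = W0) := by
    intro d hd h1 h2 h3
    rcases h3 with h3 | h3
    · exact h1 (finj _ _ (h3.trans inv1.symm))
    · exact h2 (finj _ _ (h3.trans hW'.symm))
  rcases hty with h | h | h
  · -- type I
    exact key a ha ha1.1 ha1.2 (only_one (x := g * (⟨w, mem_PP.2 hwW⟩ : PP) ^ m * g⁻¹) (v := ⟨f a, fP a ha⟩) h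
      (f2 a ha) (fc a ha))
  · -- type III
    have kk : ∀ d (hd : d ∈ D), ρ (⟨f d, fP d hd⟩ : PP) ∈ LL → f d = 1 ∨ f d = W0 := by
      intro d hd hL
      have hdd : (⟨f d, fP d hd⟩ : PP) * ⟨f d, fP d hd⟩ = 1 := Subtype.ext (f2 d hd)
      have h2 : ρ (⟨f d, fP d hd⟩ : PP) = 1 := eq_one_of_LL (k := 1) (by rw [← map_mul, hdd, map_one]) hL (Or.inl rfl) (by
        rw [pow_one, ← h, ← map_mul, fc d hd, map_mul])
      exact eq_of_ker (v := ⟨f d, fP d hd⟩) (ρ_AB h) (fun m hm h => fix_AB hm h) h2 (fc d hd)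
    have na : ρ (⟨f a, fP a ha⟩ : PP) ∉ LL := fun hL => key a ha ha1.1 ha1.2 (kk a ha hL)
    have nb : ρ (⟨f b, fP b hb⟩ : PP) ∉ LL := fun hL => key b hb hb1.1 hb1.2.1 (kk b hb hL)
    have hab : a * b ∈ D := D.mul_mem ha hb
    have h3 : ρ (⟨f (a * b), fP _ hab⟩ : PP) ∈ LL := by
      have e : (⟨f (a * b), fP _ hab⟩ : PP) = ⟨f a, fP a ha⟩ * ⟨f b, fP b hb⟩ := Subtype.ext (fm a b)
      rw [e, map_mul]
      exact (Subgroup.mul_mem_iff_of_index_two index_LL).2 ⟨fun h => absurd h na, fun h => absurd h nb⟩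
    have ea : a * a = 1 := hD.inv a ha
    rcases kk _ hab h3 with h4 | h4
    · have h5 : a * b = 1 := finj _ _ (h4.trans inv1.symm)
      exact hb1.2.2.1 (by
        calc b = a * (a * b) := by rw [← mul_assoc, ea, one_mul]
          _ = a := by rw [h5, mul_one])
    · have h5 : a * b = W' := finj _ _ (h4.trans hW'.symm)
      exact hb1.2.2.2 (by
        calc b = a * (a * b) := by rw [← mul_assoc, ea, one_mul]
          _ = a * W' := by rw [h5])
  · -- type II
    have ho : orderOf (g * (⟨w, mem_PP.2 hwW⟩ : PP) ^ m * g⁻¹) = 5 := by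
      have hx5 : (⟨w, mem_PP.2 hwW⟩ : PP) ^ 5 = 1 := by rw [← hx, pow_orderOf_eq_one]
      have h5F : Fact (Nat.Prime 5) := ⟨Nat.prime_five⟩
      refine orderOf_eq_prime ?_ ?_
      · rw [conj_pow, ← pow_mul, mul_comm, pow_mul, hx5, one_pow, mul_one, mul_inv_cancel]
      · intro h6
        rw [conj_eq_one_iff] at h6
        have := orderOf_dvd_of_pow_eq_one h6
        rw [hx] at this
        omega
    let D' : Subgroup GG := D.map (MulAut.conj (g : GG)).toMonoidHom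
    have hD' : E8 D' := e8_map (MulAut.conj (g : GG)).injective hD
    have hle : D' ≤ centralizer ({((g * (⟨w, mem_PP.2 hwW⟩ : PP) ^ m * g⁻¹ : PP) : GG)} : Set GG) := by
      rintro _ ⟨d, hd, rfl⟩
      exact mem_centralizer_singleton_iff.2 (congrArg Subtype.val (fc d hd))
    exact Cfsg.Agent.H521.KKL.HN.two_type ho h (e8_subgroupOf hD' hle)

/-- **no elementary abelian subgroup of order 8 centralizes an element of order 5** -/
theorem no_e8 {w : GG} (hw : orderOf w = 5) {D : Subgroup GG} (hD : E8 D) (hc : ∀ d ∈ D, d * w = w * d) : False := by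
  by_cases hA : ∀ z ∈ D, z ≠ 1 → IsConj z (ψ τ)
  · exact Cfsg.Agent.H521.KKL.HN.five ⟨hD, hA⟩ hw hc
  · push Not at hA
    obtain ⟨z, hz, hz1, hzA⟩ := hA
    rcases Classes.inv_class (e8_order hD hz hz1) with h1 | h1
    · exact hzA h1
    · obtain ⟨c, hcz⟩ := isConj_iff.1 h1
      have conj : ∀ a b : GG, a * b = b * a → c * a * c⁻¹ * (c * b * c⁻¹) = c * b * c⁻¹ * (c * a * c⁻¹) := by
        intro a b hab
        calc c * a * c⁻¹ * (c * b * c⁻¹) = c * (a * b) * c⁻¹ := by group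
          _ = c * (b * a) * c⁻¹ := by rw [hab]
          _ = _ := by group
      refine no_e8_W (w := c * w * c⁻¹) (D := D.map (MulAut.conj c).toMonoidHom) ?_ (e8_map (MulAut.conj c).injective hD)
        ?_ ?_ ?_
      · rw [← hw]
        exact MulEquiv.orderOf_eq (MulAut.conj c) w
      · rintro _ ⟨d, hd, rfl⟩
        exact conj d w (hc d hd)
      · rintro _ ⟨d, hd, rfl⟩
        rw [← hcz]
        exact conj d z (e8_comm hD hd hz)
      · rw [← hcz]
        exact conj w z (hc z hz).symm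

/-- **no elementary abelian subgroup of order 64 centralizes an element of order 5** -/
theorem no64 {w : GG} (hw : orderOf w = 5) (E : Subgroup GG) (hE : Nat.card E = 64) (h2 : ∀ x ∈ E, x * x = 1)
    (hc : ∀ x ∈ E, x * w = w * x) : False := by
  obtain ⟨D, hDE, hD⟩ := exists_e8 (E := E) (by rw [hE]; norm_num) h2
  exact no_e8 hw hD fun d hd => hc d (hDE hd)

/-- the same for every order divisible by 8 -/
theorem no_of_dvd {w : GG} (hw : orderOf w = 5) (E : Subgroup GG) (hE : 8 ∣ Nat.card E) (h2 : ∀ x ∈ E, x * x = 1)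
    (hc : ∀ x ∈ E, x * w = w * x) : False := by
  obtain ⟨D, hDE, hD⟩ := exists_e8 hE h2
  exact no_e8 hw hD fun d hd => hc d (hDE hd)

end Cfsg.Agent.H680.S8.LW
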